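import Groth.Prelude.Def_Mor2
import Groth.Agent.GrpField.AffImageHopf
import Groth.Agent.UnitUnram.Basic
import Groth.Agent.HilbSum.SymHilb
import Groth.Agent.FibreFlat.FP
import Groth.Agent.Chev.BcKernel
import Groth.Agent.LimDesc.FPCancel

/-!
Homomorphisms of finite locally free group schemes with kernel of the expected order are faithfully flat.
-/

set_option autoImplicit false
set_option linter.style.haveILetI false
set_option backward.isDefEq.respectTransparency false
set_option backward.isDefEq.respectTransparency.types false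
set_option maxHeartbeats 1000000

universe u

open CategoryTheory CategoryTheory.Limits MonoidalCategory CartesianMonoidalCategory MonObj GrpObj AlgebraicGeometry
open scoped CategoryTheory.Obj

noncomputable section

namespace Groth.Agent.BTExact

/-- The degree of a faithfully flat finite homomorphism is the order of its kernel. -/
theorem finrank_of_kernel {S : Scheme.{u}} {G Q N : Over S} [GrpObj G] [GrpObj Q] [GrpObj N] (w : G ⟶ Q)
    [IsMonHom w] (i : N ⟶ G) [IsMonHom i] (hK : AlgGrp.IsKernel i w) [IsFinite w.left] [Flat w.left]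
    [LocallyOfFinitePresentation w.left] [Surjective w.left] [IsFinite N.hom] [Flat N.hom]
    [LocallyOfFinitePresentation N.hom] {a : ℕ} (ha : ∀ s : S, N.hom.finrank s = a) (y : Q.left) :
    w.left.finrank y = a := by
  obtain ⟨g, rfl⟩ := w.left.surjective y
  have sq1 := UnitUnram.isPullback_shear w i hK
  have sq2 : IsPullback (snd G N).left (fst G N).left N.hom G.hom :=
    (IsPullback.of_hasPullback G.hom N.hom).flip
  rw [← Scheme.Hom.finrank_of_isPullback _ _ _ _ sq1 g, Scheme.Hom.finrank_of_isPullback _ _ _ _ sq2 g]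
  exact ha _

/-- A closed immersion of finite schemes of equal degree over a field is an isomorphism. -/
theorem isIso_of_finrank {k : Type u} [Field k] {X Y : Scheme.{u}} (i : X ⟶ Y) (q : Y ⟶ Spec (CommRingCat.of k))
    [IsClosedImmersion i] [IsFinite q] (s : ↥(Spec (CommRingCat.of k)))
    (h : (i ≫ q).finrank s = q.finrank s) : IsIso i := by
  haveI : IsAffine Y := isAffine_of_isAffineHom q
  haveI : IsAffine X := isAffine_of_isAffineHom i
  obtain ⟨R, ⟨eY⟩⟩ : ∃ R : CommRingCat.{u}, Nonempty (Spec R ≅ Y) := ⟨_, ⟨Y.isoSpec.symm⟩⟩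
  obtain ⟨C, ⟨eX⟩⟩ : ∃ C : CommRingCat.{u}, Nonempty (Spec C ≅ X) := ⟨_, ⟨X.isoSpec.symm⟩⟩
  let ψ := Spec.preimage (eX.hom ≫ i ≫ eY.inv)
  let θ := Spec.preimage (eY.hom ≫ q)
  have hψ : Spec.map ψ = eX.hom ≫ i ≫ eY.inv := Spec.map_preimage _
  have hθ : Spec.map θ = eY.hom ≫ q := Spec.map_preimage _
  letI : Algebra k R := θ.hom.toAlgebra
  letI : Algebra k C := (ψ.hom.comp θ.hom).toAlgebra
  haveI : IsClosedImmersion (Spec.map ψ) := by rw [hψ]; infer_instance
  haveI : IsFinite (Spec.map θ) := by rw [hθ]; infer_instance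
  haveI : Module.Finite k R := (IsFinite.SpecMap_iff _).1 ‹IsFinite (Spec.map θ)›
  have hsur : Function.Surjective ψ.hom :=
    (HasAffineProperty.iff_of_isAffine (P := @IsClosedImmersion)).1 ‹IsClosedImmersion (Spec.map ψ)› |>.2
      |> fun h => by
        have h' := (Scheme.ΓSpecIso_naturality ψ)
        intro c
        obtain ⟨a, ha⟩ := h ((Scheme.ΓSpecIso C).inv c)
        refine ⟨(Scheme.ΓSpecIso R).hom a, ?_⟩
        have h2 := congrArg (fun m => m.hom a) h'
        simp only [CommRingCat.hom_comp, RingHom.comp_apply] at h2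
        rw [← h2, ha, Iso.inv_hom_id_apply]
  let L : R →ₗ[k] C :=
    { toFun := ψ.hom
      map_add' := map_add _
      map_smul' := fun c r => by simp [Algebra.smul_def, RingHom.algebraMap_toAlgebra] }
  haveI : Module.Finite k C := Module.Finite.of_surjective L hsur
  have key : ∀ (D : Type u) [CommRing D] [Algebra k D] [Module.Finite k D] (t : PrimeSpectrum k),
      Scheme.Hom.finrank (Spec.map (CommRingCat.ofHom (algebraMap k D))) t = Module.finrank k D := fun D _ _ _ t => by
    rw [Scheme.Hom.finrank_SpecMap_algebraMap, Module.rankAtStalk_eq_finrank_of_free]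
    rfl
  have hq : q.finrank s = Module.finrank k R := by
    have hsq : IsPullback eY.hom (Spec.map θ) q (𝟙 _) := IsPullback.of_horiz_isIso ⟨by rw [hθ]; simp⟩
    exact (Scheme.Hom.finrank_of_isPullback _ _ _ _ hsq s).symm.trans (key R s)
  have hfq : (i ≫ q).finrank s = Module.finrank k C := by
    have hsq : IsPullback eX.hom (Spec.map (θ ≫ ψ)) (i ≫ q) (𝟙 _) :=
      IsPullback.of_horiz_isIso ⟨by rw [Spec.map_comp, hψ, hθ]; simp⟩
    exact (Scheme.Hom.finrank_of_isPullback _ _ _ _ hsq s).symm.trans (key C s)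
  have hinj : Function.Injective L :=
    (LinearMap.injective_iff_surjective_of_finrank_eq_finrank (hq.symm.trans (h.symm.trans hfq))).2 hsur
  haveI : IsIso ψ := (ConcreteCategory.isIso_iff_bijective _).2 ⟨hinj, hsur⟩
  have e : i = eX.inv ≫ Spec.map ψ ≫ eY.hom := by rw [hψ]; simp
  rw [e]; infer_instance

/-- Over a field a homomorphism of finite groups whose orders multiply is faithfully flat. -/
theorem flat_surjective_field {k : Type u} [Field k] {G Q N : Over (Spec (CommRingCat.of k))} [GrpObj G] [GrpObj Q]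
    [GrpObj N] (w : G ⟶ Q) [IsMonHom w] (i : N ⟶ G) [IsMonHom i] (hK : AlgGrp.IsKernel i w) [IsFinite G.hom]
    [IsFinite Q.hom] [IsFinite N.hom] {a q : ℕ} (ha : ∀ s, N.hom.finrank s = a) (hq : ∀ s, Q.hom.finrank s = q)
    (hG : ∀ s, G.hom.finrank s = a * q) (ha0 : a ≠ 0) :
    Flat w.left ∧ Surjective w.left := by
  haveI : IsAffine Q.left := isAffine_of_isAffineHom Q.hom
  obtain ⟨C, _, p, j, _, _, hpj, hsur, hflat, hcl, -, -⟩ := GrpField.AffImage.exists_factor_affine w
  haveI := hsur; haveI := hflat; haveI := hcl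
  haveI : Mono j := by
    refine ⟨fun {T} x y e => Over.OverMorphism.ext ((cancel_mono j.left).1 ?_)⟩
    exact congrArg CommaMorphism.left e
  have hKp : AlgGrp.IsKernel i p := by
    refine IsPullback.mk' ?_ (fun T φ φ' e₁ _ => hK.hom_ext e₁ (Subsingleton.elim _ _)) fun T x b hab => ?_
    · rw [← cancel_mono j, Category.assoc, hpj, hK.w, Category.assoc, IsMonHom.one_hom j]
    · refine ⟨hK.lift x b ?_, hK.lift_fst _ _ _, Subsingleton.elim _ _⟩
      rw [← hpj, reassoc_of% hab, IsMonHom.one_hom j]
  haveI : IsFinite C.hom := by rw [← Over.w j]; infer_instance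
  haveI : IsFinite (p.left ≫ C.hom) := by rw [Over.w p]; infer_instance
  haveI : IsFinite p.left := IsFinite.of_comp p.left C.hom
  haveI : LocallyOfFinitePresentation p.left := by
    haveI : IsLocallyNoetherian C.left := LocallyOfFiniteType.isLocallyNoetherian C.hom
    infer_instance
  have hdeg := finrank_of_kernel p i hKp ha
  let s : ↥(Spec (CommRingCat.of k)) := IsLocalRing.closedPoint k
  have h1 : G.hom.finrank s = a * C.hom.finrank s := by
    rw [← HilbSum.finrank_comp_field p.left C.hom hdeg s, Over.w p]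
  have h2 : (j.left ≫ Q.hom).finrank s = Q.hom.finrank s := by
    rw [Over.w j, hq]
    exact (Nat.eq_of_mul_eq_mul_left (Nat.pos_of_ne_zero ha0) ((hG s).symm.trans h1)).symm
  haveI : IsIso j.left := isIso_of_finrank j.left Q.hom s h2
  rw [← hpj, Over.comp_left]
  exact ⟨inferInstance, inferInstance⟩

theorem fibMap_flat {S : Scheme.{u}} {G Q : Over S} (w : G ⟶ Q) {S' : Scheme.{u}} (b : S' ⟶ S)
    (h : Flat ((Over.pullback b).map w).left) (g : G.left ⟶ S) (hg : g = G.hom)
    (e : (pullback.fst g b ≫ w.left) ≫ Q.hom = pullback.snd g b ≫ b) :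
    Flat (pullback.lift (pullback.fst g b ≫ w.left) (pullback.snd g b) e) := by
  subst hg
  exact h

/-- A homomorphism of finite locally free groups whose orders multiply is finite locally free and surjective. -/
theorem finLocFree_surjective {S : Scheme.{u}} {G Q N : Over S} [GrpObj G] [GrpObj Q]
    [GrpObj N] (w : G ⟶ Q) [IsMonHom w] (i : N ⟶ G) [IsMonHom i] (hK : AlgGrp.IsKernel i w) {a q : ℕ}
    (hN : Mor2.IsFinLocFreeOfDeg a N.hom) (hQ : Mor2.IsFinLocFreeOfDeg q Q.hom)
    (hG : Mor2.IsFinLocFreeOfDeg (a * q) G.hom) (ha0 : a ≠ 0) :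
    Mor2.IsFinLocFreeOfDeg a w.left ∧ Surjective w.left := by
  obtain ⟨⟨n1, n2, n3⟩, ha⟩ := hN
  obtain ⟨⟨q1, q2, q3⟩, hq⟩ := hQ
  obtain ⟨⟨g1, g2, g3⟩, hg⟩ := hG
  haveI := n1; haveI := n2; haveI := n3; haveI := q1; haveI := q2; haveI := q3
  haveI := g1; haveI := g2; haveI := g3
  haveI : Mono i := ⟨fun {T} x y e => hK.hom_ext e (Subsingleton.elim _ _)⟩
  have key : ∀ (L : Type u) [Field L] (b : Spec (CommRingCat.of L) ⟶ S),
      Flat ((Over.pullback b).map w).left ∧ Surjective ((Over.pullback b).map w).left := by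
    intro L _ b
    haveI : IsFinite ((Over.pullback b).obj G).hom := inferInstanceAs (IsFinite (pullback.snd G.hom b))
    haveI : IsFinite ((Over.pullback b).obj Q).hom := inferInstanceAs (IsFinite (pullback.snd Q.hom b))
    haveI : IsFinite ((Over.pullback b).obj N).hom := inferInstanceAs (IsFinite (pullback.snd N.hom b))
    exact flat_surjective_field _ _ (Chev.isKernel_bc b i w hK)
      (fun s => (Scheme.Hom.finrank_of_isPullback _ _ _ _ (IsPullback.of_hasPullback N.hom b) s).trans (ha _))
      (fun s => (Scheme.Hom.finrank_of_isPullback _ _ _ _ (IsPullback.of_hasPullback Q.hom b) s).trans (hq _))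
      (fun s => (Scheme.Hom.finrank_of_isPullback _ _ _ _ (IsPullback.of_hasPullback G.hom b) s).trans (hg _)) ha0
  haveI : LocallyOfFinitePresentation (w.left ≫ Q.hom) := by rw [Over.w]; infer_instance
  haveI : Flat (w.left ≫ Q.hom) := by rw [Over.w]; infer_instance
  haveI : Flat w.left :=
    FibreFlat.flat_of_fibres_lfp w.left Q.hom fun L _ b => fibMap_flat w b (key L b).1 _ (Over.w w) _
  haveI : IsFinite (w.left ≫ Q.hom) := by rw [Over.w]; infer_instance
  haveI : IsFinite w.left := IsFinite.of_comp w.left Q.hom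
  haveI : LocallyOfFinitePresentation w.left := LimDesc.lfp_of_comp w.left Q.hom
  haveI : Surjective w.left := by
    refine ⟨fun y => ?_⟩
    let b := S.fromSpecResidueField (Q.hom y)
    obtain ⟨z, hz, -⟩ := Scheme.Pullback.exists_preimage_pullback (f := Q.hom) (g := b) y
      (IsLocalRing.closedPoint _) (S.fromSpecResidueField_apply (Q.hom y) _).symm
    obtain ⟨v, hv⟩ := (key _ b).2.surj z
    refine ⟨pullback.fst G.hom b v, ?_⟩
    refine Eq.trans ?_ hz
    refine Eq.trans ?_ (congrArg (pullback.fst Q.hom b) hv)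
    have e : ((Over.pullback b).map w).left ≫ pullback.fst Q.hom b = pullback.fst G.hom b ≫ w.left :=
      pullback.lift_fst _ _ _
    exact congrArg (fun m : pullback G.hom b ⟶ Q.left => m.base v) e.symm
  exact ⟨⟨⟨inferInstance, inferInstance, inferInstance⟩, finrank_of_kernel w i hK ha⟩, inferInstance⟩

end Groth.Agent.BTExact

end
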